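import Cfsg.Agent.Lib.MonsterType.HN.Checks
import Cfsg.Agent.Lib.MonsterType.OddType.BlockGroups

/-!
The centraliser of the element of order 5 acts on ten blocks as `A₅ ≀ 2`.
-/

set_option autoImplicit false

namespace Cfsg.Agent.Lib.MonsterType.HN

open Cfsg
open Cfsg.Agent.Lib
open Cfsg.Agent.Lib.Leech
open Cfsg.Agent.Lib.MonsterType.OddType

set_option maxHeartbeats 4000000 in
theorem cent_ok : Golay.Classes.centOK 5 Data.sigmaList Data.wit Data.cent [List.range 24] = true := by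
  decide +kernel

theorem card_centM24 : Nat.card (Golay.Classes.centM24 spec.sl) = 60 :=
  (Golay.Classes.card_centM24 cent_ok).trans (by decide +kernel)

theorem part_even : ∀ i : Fin 3,
    let d := Data.prms.getD i.val ([], [], [], [], false)
    Equiv.Perm.sign (part d.1 d.2.1) = 1 ∧ Equiv.Perm.sign (part d.2.2.1 d.2.2.2.1) = 1 := by
  decide +kernel

theorem prm_mem (i : Fin 3) : prm i ∈ alternatingFiveWreathTwo := by
  obtain ⟨h1, h2⟩ := part_even i
  have hp := pairHom_mem (⟨_, Equiv.Perm.mem_alternatingGroup.2 h1⟩,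
    ⟨_, Equiv.Perm.mem_alternatingGroup.2 h2⟩)
  rw [prm]
  split
  · exact mul_mem hp comm_mem
  · exact hp

set_option maxHeartbeats 4000000 in
theorem words_spec : (∀ k : Fin 3, wordPerm k.val =
      Equiv.Perm.sumCongr (AltAut.cyc (0 : Fin 5) 1 ⟨k.val + 2, by omega⟩) 1) ∧
    wordPerm 3 = Equiv.sumComm (Fin 5) (Fin 5) := by
  decide +kernel

theorem wordPerm_mem (j : ℕ) : wordPerm j ∈ Subgroup.closure (Set.range prm) :=
  Subgroup.list_prod_mem _ fun x hx => by
    obtain ⟨a, -, rfl⟩ := List.mem_map.1 hx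
    exact Subgroup.subset_closure ⟨_, rfl⟩

theorem prm_gen : Subgroup.closure (Set.range prm) = alternatingFiveWreathTwo := by
  refine le_antisymm ((Subgroup.closure_le _).2 ?_) ((Subgroup.closure_le _).2 ?_)
  · rintro _ ⟨i, rfl⟩; exact prm_mem i
  set K := Subgroup.closure (Set.range prm)
  have hc : Equiv.sumComm (Fin 5) (Fin 5) ∈ K := words_spec.2 ▸ wordPerm_mem 3
  let ι : Equiv.Perm (Fin 5) →* Equiv.Perm (Fin 5 ⊕ Fin 5) :=
    (Equiv.Perm.sumCongrHom (Fin 5) (Fin 5)).comp (MonoidHom.inl _ _)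
  have hle : alternatingGroup (Fin 5) ≤ K.comap ι := by
    refine alternating_le_of_cyc (show (0 : Fin 5) ≠ 1 by decide) _ fun w h0 h1 => ?_
    have e := words_spec.1 ⟨w.val - 2, by omega⟩
    have h2 : 2 ≤ w.val := by
      have a0 : w.val ≠ 0 := fun r => h0 (Fin.ext r)
      have a1 : w.val ≠ 1 := fun r => h1 (Fin.ext r)
      omega
    rw [show (⟨w.val - 2 + 2, by omega⟩ : Fin 5) = w from Fin.ext (by simp only; omega)] at e
    show ι _ ∈ K
    exact (e ▸ wordPerm_mem _ :)
  rintro x (⟨σ, τ, rfl⟩ | rfl)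
  · have e : Equiv.Perm.sumCongr (σ : Equiv.Perm (Fin 5)) (τ : Equiv.Perm (Fin 5)) =
        ι σ * (Equiv.sumComm (Fin 5) (Fin 5) * ι τ * Equiv.sumComm (Fin 5) (Fin 5)) :=
      Equiv.ext fun x => by rcases x with i | i <;> rfl
    rw [SetLike.mem_coe, e]
    exact mul_mem (hle σ.2) (mul_mem (mul_mem hc (hle τ.2)) hc)
  · exact hc

/-- The generators. -/
noncomputable def gen : Fin 3 → Spec.cen spec_ok :=
  ![Spec.matC spec_ok gM_ok, Spec.permC spec_ok t_ok.1 t_ok.2.1,
    Spec.wordC spec_ok (codeChk_iff w_ok.1) w_ok.2]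

theorem gen_act : ∀ i k, Spec.act spec_ok (gen i) (Pi.single k 1) = mat i k := by
  intro i k
  obtain ⟨h0, h1, h2⟩ := mat_ok k
  fin_cases i
  · exact (Spec.act_matC spec_ok gM_ok k).trans h0
  · exact (Spec.act_permC spec_ok t_ok.1 t_ok.2.1 t_ok.2.2 k).trans h1
  · exact (Spec.act_wordC spec_ok (codeChk_iff w_ok.1) w_ok.2 k).trans h2

/-- The block action. -/
noncomputable def blocks : Blocks spec spec_ok (Fin 5 ⊕ Fin 5) 3 alternatingFiveWreathTwo where
  omega := classSet Data.omega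
  blk := blk
  gen := gen
  mat := mat
  prm := prm
  gen_act := gen_act
  blk_inj := blk_inj
  prm_spec := prm_ok
  prm_gen := prm_gen
  short := fun s hs => ⟨shortV s, short_ok s hs⟩
  words := words_ok
  bound := by
    rw [card_centM24, show spec.p = 5 from rfl]
    exact (Nat.mul_le_mul_right _ omega_card).trans (le_trans (by norm_num) (Nat.mul_le_mul_left _ card_wreath_ge))

end Cfsg.Agent.Lib.MonsterType.HN
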