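import Mathlib.Init

/-!
Certificate data: fixed classes and blocks of an element of order 5.
-/

set_option autoImplicit false

namespace Cfsg.Agent.Lib.MonsterType.HN.Data

/-- The element. -/
def sigmaList : List Nat :=
  [1, 2, 3, 23, 8, 5, 9, 22, 10, 13, 20, 12, 7, 15, 14, 21, 16, 17, 4, 11, 18, 6, 19, 0]

/-- The orbit of each point. -/
def orbT : List Nat :=
  [4, 4, 4, 4, 5, 0, 6, 7, 5, 6, 5, 7, 7, 6, 1, 6, 2, 3, 5, 7, 5, 6, 7, 4]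

/-- Probes. -/
def probes : List (List Int) :=
  [[-4, -4, 0, 0, 0, 0, 0, 0],
   [-4, 0, -4, 0, 0, 0, 0, 0],
   [-4, 0, 0, -4, 0, 0, 0, 0],
   [-4, 0, 0, 4, 0, 0, 0, 0],
   [-3, -1, -1, -1, 1, -1, 1, 1],
   [-3, -1, -1, 1, -1, 1, 1, -1],
   [-3, -1, 1, -1, 1, 1, -1, -1],
   [-3, 1, -1, -1, -1, 1, -1, 1]]

/-- The dual basis. -/
def basis : List (List Int) :=
  [[-2, 0, -2, -2, 0, 0, 0, -2],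
   [-2, -2, 0, -2, -2, 0, 0, 0],
   [-5, -3, -3, -1, 1, -1, -1, 1],
   [-3, -1, -1, -1, 1, -1, 1, 1],
   [-4, -4, -4, -4, 0, 0, 0, 0],
   [-4, 0, 0, -4, 0, 0, 0, 0],
   [-4, 0, -4, 0, 0, 0, 0, 0],
   [-4, -4, 0, 0, 0, 0, 0, 0]]

/-- Classes of squared length 64. -/
def omega : List Nat :=
  [4, 9, 10, 16, 31, 37, 38, 39, 45, 46, 47, 57, 58, 61, 62, 67, 70, 71, 75, 78, 79, 83, 84, 89, 94, 97, 99, 104, 109, 114, 115, 118, 121, 124, 125, 131, 133, 135, 139, 141, 143, 147, 148, 154, 157, 162, 163, 168, 174, 177, 179, 181, 186, 188, 190, 200, 204, 205, 206, 209, 210, 212, 219, 221, 222, 224, 232, 240, 241, 242, 245, 246, 247, 251, 252]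

/-- Blocks of classes. -/
def blocks : List (List Nat) :=
  [[4, 57, 61, 75, 79, 114, 118, 131, 135, 186, 190, 200, 204, 241, 245],
   [9, 38, 47, 71, 78, 97, 104, 147, 154, 181, 188, 212, 221, 242, 251],
   [10, 39, 45, 84, 94, 115, 121, 133, 143, 162, 168, 209, 219, 246, 252],
   [16, 46, 62, 67, 83, 109, 125, 141, 157, 163, 179, 206, 222, 224, 240],
   [31, 37, 58, 70, 89, 99, 124, 139, 148, 174, 177, 205, 210, 232, 247],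
   [4, 58, 62, 67, 71, 121, 125, 139, 143, 177, 181, 200, 204, 242, 246],
   [31, 38, 57, 75, 84, 109, 114, 133, 154, 163, 188, 206, 209, 232, 247],
   [9, 39, 46, 70, 79, 97, 104, 148, 157, 179, 186, 210, 219, 245, 252],
   [16, 45, 61, 78, 94, 99, 115, 131, 147, 174, 190, 205, 221, 224, 240],
   [10, 37, 47, 83, 89, 118, 124, 135, 141, 162, 168, 212, 222, 241, 251]]

/-- Short representatives of the other classes. -/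
def short : List (List Int) :=
  [[0, 0, 0, 0, 0, 0, 0, 0],
   [-2, 0, -2, -2, 0, 0, 0, -2],
   [-2, -2, 0, -2, -2, 0, 0, 0],
   [0, -2, 2, 0, -2, 0, 0, 2],
   [0, 0, 0, 0, 0, 0, 0, 0],
   [-1, 3, -3, 3, -1, 1, 1, 1],
   [-1, -3, 3, 3, 1, 1, 1, -1],
   [-1, 3, 3, 3, -1, -1, -1, -1],
   [-3, -1, -1, -1, 1, -1, 1, 1],
   [0, 0, 0, 0, 0, 0, 0, 0],
   [0, 0, 0, 0, 0, 0, 0, 0],
   [-1, 3, 3, -3, 1, 1, -1, 1],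
   [-2, -2, -2, 0, 0, 0, -2, 0],
   [0, -2, 0, 2, 0, 0, -2, 2],
   [0, 0, -2, 2, 2, 0, -2, 0],
   [-4, 2, 2, 2, 0, -2, 0, 0],
   [0, 0, 0, 0, 0, 0, 0, 0],
   [-2, -4, -2, -2, 0, 0, 0, 2],
   [-2, -2, -4, -2, 2, 0, 0, 0],
   [0, -2, -2, 0, 2, 0, 0, 2],
   [-1, 1, 1, 3, 1, -1, -1, 1],
   [-3, 1, -1, 1, 1, -1, -1, -1],
   [-3, -1, 1, 1, -1, -1, -1, 1],
   [-5, -1, -1, -1, -1, -1, -1, -1],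
   [-1, -3, -3, -3, -1, 1, -1, -1],
   [-1, 3, 1, 1, 1, -1, 1, -1],
   [-1, 1, 3, 1, -1, -1, 1, 1],
   [-3, 1, 1, -1, -1, -1, 1, -1],
   [-2, -2, -2, -4, 0, 0, 2, 0],
   [0, -2, 0, -2, 0, 0, 2, 2],
   [0, 0, -2, -2, 2, 0, 2, 0],
   [0, 0, 0, 0, 0, 0, 0, 0],
   [-4, 0, 0, -4, 0, 0, 0, 0],
   [-2, 0, 2, -2, 0, 0, 0, 2],
   [-2, 2, 0, -2, 2, 0, 0, 0],
   [0, -2, -2, 0, -2, 0, 0, -2],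
   [-1, -3, -3, 3, 1, -1, -1, 1],
   [0, 0, 0, 0, 0, 0, 0, 0],
   [0, 0, 0, 0, 0, 0, 0, 0],
   [0, 0, 0, 0, 0, 0, 0, 0],
   [-1, 1, 1, -3, -1, 1, -1, -1],
   [-1, -1, -3, 1, 1, -1, 1, -1],
   [-1, -3, -1, 1, -1, -1, 1, 1],
   [-3, -3, -3, -1, -1, -1, 1, -1],
   [-2, 2, 2, -4, 0, 0, 2, 0],
   [0, 0, 0, 0, 0, 0, 0, 0],
   [0, 0, 0, 0, 0, 0, 0, 0],
   [0, 0, 0, 0, 0, 0, 0, 0],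
   [0, -4, -4, 0, 0, 0, 0, 0],
   [-2, 4, 2, -2, 0, 0, 0, -2],
   [-2, 2, 4, -2, -2, 0, 0, 0],
   [-2, 0, 0, 2, 0, -2, 2, 0],
   [-5, 1, 1, -1, 1, -1, -1, 1],
   [-1, -1, 1, -5, -1, 1, 1, 1],
   [-1, 1, -1, -5, 1, 1, 1, -1],
   [-1, -1, -1, 3, -1, -1, -1, -1],
   [-3, 3, 3, -1, 1, -1, 1, 1],
   [0, 0, 0, 0, 0, 0, 0, 0],
   [0, 0, 0, 0, 0, 0, 0, 0],
   [-1, -1, -1, -3, 1, 1, -1, 1],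
   [-2, 2, 2, 0, 0, 0, -2, 0],
   [0, 0, 0, 0, 0, 0, 0, 0],
   [0, 0, 0, 0, 0, 0, 0, 0],
   [-4, -2, -2, 2, 0, -2, 0, 0],
   [-4, 0, -4, 0, 0, 0, 0, 0],
   [-2, 0, -2, 2, 0, 0, 0, 2],
   [-2, 2, -4, 2, 2, 0, 0, 0],
   [0, 0, 0, 0, 0, 0, 0, 0],
   [-1, -3, 1, -1, 1, -1, -1, 1],
   [-3, -3, -1, -3, 1, -1, -1, -1],
   [0, 0, 0, 0, 0, 0, 0, 0],
   [0, 0, 0, 0, 0, 0, 0, 0],
   [-1, 1, -3, 1, -1, 1, -1, -1],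
   [-1, -1, 1, -3, 1, -1, 1, -1],
   [-1, -3, 3, -3, -1, -1, 1, 1],
   [0, 0, 0, 0, 0, 0, 0, 0],
   [-2, 2, -2, 0, 0, 0, 2, 0],
   [0, -2, 0, -2, 0, 0, -2, -2],
   [0, 0, 0, 0, 0, 0, 0, 0],
   [0, 0, 0, 0, 0, 0, 0, 0],
   [0, -4, 0, -4, 0, 0, 0, 0],
   [-2, 4, -2, 2, 0, 0, 0, -2],
   [-2, 2, 0, 2, -2, 0, 0, 0],
   [0, 0, 0, 0, 0, 0, 0, 0],
   [0, 0, 0, 0, 0, 0, 0, 0],
   [-1, -1, -3, -1, -1, 1, 1, 1],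
   [-1, 1, -5, -1, 1, 1, 1, -1],
   [-1, -1, 3, -1, -1, -1, -1, -1],
   [-3, 3, -1, 3, 1, -1, 1, 1],
   [0, 0, 0, 0, 0, 0, 0, 0],
   [-5, 1, -1, 1, -1, -1, 1, 1],
   [-1, -1, -5, 1, 1, 1, -1, 1],
   [-2, 2, -2, 4, 0, 0, -2, 0],
   [-2, 0, 2, 0, 2, -2, 0, 0],
   [0, 0, 0, 0, 0, 0, 0, 0],
   [-4, -2, 2, -2, 0, -2, 0, 0],
   [0, 0, -4, 4, 0, 0, 0, 0],
   [0, 0, 0, 0, 0, 0, 0, 0],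
   [-2, -2, -4, 2, -2, 0, 0, 0],
   [0, 0, 0, 0, 0, 0, 0, 0],
   [-3, 3, -1, -3, -1, 1, 1, -1],
   [-1, 3, 1, -1, -1, 1, 1, 1],
   [-1, 5, -1, -1, 1, 1, 1, -1],
   [-1, -5, -1, -1, -1, -1, -1, -1],
   [0, 0, 0, 0, 0, 0, 0, 0],
   [-3, 1, -1, -1, -1, 1, -1, 1],
   [-3, 3, -3, -1, 1, 1, -1, -1],
   [-1, 3, -1, 1, 1, 1, -1, 1],
   [-2, -2, 2, -4, 0, 0, -2, 0],
   [0, 0, 0, 0, 0, 0, 0, 0],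
   [0, 0, -2, 2, -2, 0, 2, 0],
   [-4, -2, 2, 2, 0, 2, 0, 0],
   [-4, 4, 0, 0, 0, 0, 0, 0],
   [-2, 4, 2, 2, 0, 0, 0, 2],
   [0, 0, 0, 0, 0, 0, 0, 0],
   [0, 0, 0, 0, 0, 0, 0, 0],
   [-1, 1, 5, -1, 1, -1, -1, 1],
   [-3, 1, 3, -3, 1, -1, -1, -1],
   [0, 0, 0, 0, 0, 0, 0, 0],
   [-3, 1, -3, -3, 1, 1, 1, 1],
   [-1, 5, 1, 1, -1, 1, -1, -1],
   [0, 0, 0, 0, 0, 0, 0, 0],
   [-1, 1, -1, 5, -1, -1, 1, 1],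
   [-3, 1, -3, 3, -1, -1, 1, -1],
   [0, 0, 0, 0, 0, 0, 0, 0],
   [0, 0, 0, 0, 0, 0, 0, 0],
   [-2, -2, 0, 0, 0, -2, 0, -2],
   [0, -2, 2, 2, 0, -2, 0, 0],
   [-4, -4, 0, 0, 0, 0, 0, 0],
   [-2, -4, 2, 2, 0, 0, 0, 2],
   [-2, -2, 0, 2, 2, 0, 0, 0],
   [0, 0, 0, 0, 0, 0, 0, 0],
   [-1, 1, -3, -1, 1, -1, -1, 1],
   [0, 0, 0, 0, 0, 0, 0, 0],
   [-3, -1, -3, -3, -1, -1, -1, 1],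
   [0, 0, 0, 0, 0, 0, 0, 0],
   [-1, -3, 1, 1, -1, 1, -1, -1],
   [-1, 3, -3, -3, 1, -1, 1, -1],
   [-1, 1, -1, -3, -1, -1, 1, 1],
   [0, 0, 0, 0, 0, 0, 0, 0],
   [-2, -2, 2, 0, 0, 0, 2, 0],
   [0, 0, 0, 0, 0, 0, 0, 0],
   [0, 0, -2, -2, -2, 0, -2, 0],
   [0, 0, 0, 0, 0, 0, 0, 0],
   [0, 0, -4, -4, 0, 0, 0, 0],
   [-2, 0, 2, 2, 0, 0, 0, -2],
   [-2, -2, 4, 2, -2, 0, 0, 0],
   [0, 0, 0, 0, 0, 0, 0, 0],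
   [0, 0, 0, 0, 0, 0, 0, 0],
   [-1, -5, 1, -1, -1, 1, 1, 1],
   [-1, -3, -1, -1, 1, 1, 1, -1],
   [-1, 3, -1, -1, -1, -1, -1, -1],
   [-3, -1, 3, 3, 1, -1, 1, 1],
   [-5, -1, 1, 1, 1, -1, 1, -1],
   [0, 0, 0, 0, 0, 0, 0, 0],
   [-1, -5, -1, 1, 1, 1, -1, 1],
   [-2, -2, 2, 4, 0, 0, -2, 0],
   [0, 0, 0, 0, 0, 0, 0, 0],
   [-2, 2, 0, 0, 0, -2, 0, 2],
   [-4, 2, -2, -2, 0, -2, 0, 0],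
   [0, -4, 0, 4, 0, 0, 0, 0],
   [-2, -4, -2, 2, 0, 0, 0, -2],
   [0, 0, 0, 0, 0, 0, 0, 0],
   [0, 0, 0, 0, 0, 0, 0, 0],
   [-3, -1, 3, -3, -1, 1, 1, -1],
   [-1, -1, 5, -1, -1, 1, 1, 1],
   [-1, 1, 3, -1, 1, 1, 1, -1],
   [-1, -1, -5, -1, -1, -1, -1, -1],
   [0, 0, 0, 0, 0, 0, 0, 0],
   [-3, -3, 3, -1, -1, 1, -1, 1],
   [-3, -1, 1, -1, 1, 1, -1, -1],
   [-1, -1, 3, 1, 1, 1, -1, 1],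
   [-2, 2, -2, -4, 0, 0, -2, 0],
   [0, -2, 0, 2, 0, 0, 2, -2],
   [0, 0, 0, 0, 0, 0, 0, 0],
   [-4, 2, -2, 2, 0, 2, 0, 0],
   [-4, 0, 4, 0, 0, 0, 0, 0],
   [0, 0, 0, 0, 0, 0, 0, 0],
   [-2, 2, 4, 2, 2, 0, 0, 0],
   [0, 0, 0, 0, 0, 0, 0, 0],
   [-1, 5, 1, -1, 1, -1, -1, 1],
   [0, 0, 0, 0, 0, 0, 0, 0],
   [-3, 3, 1, -3, -1, -1, -1, 1],
   [-3, -3, 1, -3, 1, 1, 1, 1],
   [-1, 1, 5, 1, -1, 1, -1, -1],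
   [-1, -1, 1, 5, 1, -1, 1, -1],
   [0, 0, 0, 0, 0, 0, 0, 0],
   [-3, -3, 1, 3, -1, -1, 1, -1],
   [0, 0, 0, 0, 0, 0, 0, 0],
   [-2, 0, -2, 0, -2, -2, 0, 0],
   [0, 0, 0, 0, 0, 0, 0, 0],
   [0, -2, 2, -2, 0, 2, 0, 0],
   [0, -4, 4, 0, 0, 0, 0, 0],
   [-2, -4, 2, -2, 0, 0, 0, -2],
   [-2, 2, -4, -2, -2, 0, 0, 0],
   [0, -2, 2, 0, 2, 0, 0, -2],
   [-3, -1, -1, 1, -1, 1, 1, -1],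
   [-1, -1, 1, 3, -1, 1, 1, 1],
   [-1, 1, -1, 3, 1, 1, 1, -1],
   [-1, -1, -1, -5, -1, -1, -1, -1],
   [0, 0, 0, 0, 0, 0, 0, 0],
   [-3, -3, -1, 3, -1, 1, -1, 1],
   [-3, -1, -3, 3, 1, 1, -1, -1],
   [-1, -1, -1, 5, 1, 1, -1, 1],
   [0, 0, 0, 0, 0, 0, 0, 0],
   [0, 0, 0, 0, 0, 0, 0, 0],
   [0, 0, 0, 0, 0, 0, 0, 0],
   [-4, 2, 2, -2, 0, 2, 0, 0],
   [-4, 0, 0, 4, 0, 0, 0, 0],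
   [0, 0, 0, 0, 0, 0, 0, 0],
   [0, 0, 0, 0, 0, 0, 0, 0],
   [-2, 0, 0, -2, 0, -2, -2, 0],
   [0, 0, 0, 0, 0, 0, 0, 0],
   [-3, -3, 3, 1, 1, -1, -1, -1],
   [-3, 3, -3, 1, -1, -1, -1, 1],
   [-3, -3, -3, 1, 1, 1, 1, 1],
   [-1, 1, 1, 5, -1, 1, -1, -1],
   [-1, -1, 5, 1, 1, -1, 1, -1],
   [-1, 5, -1, 1, -1, -1, 1, 1],
   [0, 0, 0, 0, 0, 0, 0, 0],
   [-2, 2, 2, 4, 0, 0, 2, 0],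
   [0, 0, 0, 0, 0, 0, 0, 0],
   [0, 0, 0, 0, 0, 0, 0, 0],
   [0, -2, -2, 2, 0, 2, 0, 0],
   [0, 0, 0, 0, 0, 0, 0, 0],
   [-2, 4, -2, -2, 0, 0, 0, 2],
   [-2, -2, 4, -2, 2, 0, 0, 0],
   [-2, 0, 0, 2, 0, 2, -2, 0],
   [-1, 1, 1, -5, 1, -1, -1, 1],
   [-5, -1, 1, -1, -1, 1, 1, 1],
   [-5, 1, -1, -1, 1, 1, 1, -1],
   [-3, 1, 1, 1, 1, 1, 1, 1],
   [0, 0, 0, 0, 0, 0, 0, 0],
   [-1, -5, 1, 1, 1, -1, 1, -1],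
   [-1, 1, -5, 1, -1, -1, 1, 1],
   [-5, -1, -1, 1, 1, 1, -1, 1],
   [-2, -2, -2, 4, 0, 0, 2, 0],
   [-2, 0, 2, 0, -2, 2, 0, 0],
   [-2, 2, 0, 0, 0, 2, 0, -2],
   [0, -2, -2, -2, 0, -2, 0, 0],
   [0, 0, 0, 0, 0, 0, 0, 0],
   [0, 0, 0, 0, 0, 0, 0, 0],
   [0, 0, 0, 0, 0, 0, 0, 0],
   [-2, 0, 0, -2, 0, 2, 2, 0],
   [-3, 3, 3, 1, -1, 1, 1, -1],
   [0, 0, 0, 0, 0, 0, 0, 0],
   [0, 0, 0, 0, 0, 0, 0, 0],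
   [0, 0, 0, 0, 0, 0, 0, 0],
   [-5, 1, 1, 1, -1, 1, -1, -1],
   [-3, 1, 3, 3, -1, 1, -1, 1],
   [-3, 3, 1, 3, 1, 1, -1, -1],
   [0, 0, 0, 0, 0, 0, 0, 0],
   [0, 0, 0, 0, 0, 0, 0, 0],
   [-2, 0, -2, 0, 2, 2, 0, 0],
   [-2, -2, 0, 0, 0, 2, 0, 2],
   [-4, -2, -2, -2, 0, 2, 0, 0]]

/-- A matrix commuting with the element. -/
def gRows : List (List Int) :=
  [[6, -2, -2, -2, 0, -2, 0, 0, 0, 0, 0, 0, 0, 0, 2, 0, 0, 2, 0, 0, 0, 0, 0, -2],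
   [-2, 6, -2, -2, 0, -2, 0, 0, 0, 0, 0, 0, 0, 0, 2, 0, 0, 2, 0, 0, 0, 0, 0, -2],
   [-2, -2, 6, -2, 0, -2, 0, 0, 0, 0, 0, 0, 0, 0, 2, 0, 0, 2, 0, 0, 0, 0, 0, -2],
   [-2, -2, -2, 6, 0, -2, 0, 0, 0, 0, 0, 0, 0, 0, 2, 0, 0, 2, 0, 0, 0, 0, 0, -2],
   [0, 0, 0, 0, 2, 0, 2, 2, -2, -2, 2, 2, 2, -2, 0, -2, 2, 0, -2, 2, 2, 2, -2, 0],
   [2, 2, 2, 2, 0, 2, 0, 0, 0, 0, 0, 0, 0, 0, 6, 0, 0, -2, 0, 0, 0, 0, 0, 2],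
   [0, 0, 0, 0, -2, 0, -2, 2, -2, 2, 2, 2, -2, 2, 0, 2, 2, 0, 2, -2, 2, 2, -2, 0],
   [0, 0, 0, 0, 2, 0, -2, 2, 2, 2, 2, -2, 2, -2, 0, 2, -2, 0, -2, -2, 2, 2, 2, 0],
   [0, 0, 0, 0, -2, 0, 2, 2, 2, 2, -2, 2, 2, -2, 0, -2, 2, 0, 2, -2, 2, -2, 2, 0],
   [0, 0, 0, 0, 2, 0, 2, -2, -2, -2, -2, -2, 2, 2, 0, 2, 2, 0, 2, -2, 2, 2, 2, 0],
   [0, 0, 0, 0, 2, 0, -2, 2, -2, 2, 2, -2, 2, 2, 0, -2, 2, 0, 2, 2, -2, -2, 2, 0],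
   [0, 0, 0, 0, 2, 0, -2, -2, 2, 2, -2, 2, 2, 2, 0, -2, -2, 0, 2, 2, 2, 2, -2, 0],
   [0, 0, 0, 0, 2, 0, 2, 2, 2, -2, 2, 2, 2, 2, 0, 2, -2, 0, 2, -2, -2, -2, -2, 0],
   [0, 0, 0, 0, 2, 0, 2, 2, 2, 2, -2, -2, -2, -2, 0, 2, 2, 0, 2, 2, -2, 2, -2, 0],
   [-2, -2, -2, -2, 0, 6, 0, 0, 0, 0, 0, 0, 0, 0, 2, 0, 0, 2, 0, 0, 0, 0, 0, -2],
   [0, 0, 0, 0, 2, 0, 2, -2, 2, 2, 2, 2, -2, 2, 0, -2, 2, 0, -2, -2, -2, 2, 2, 0],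
   [0, 0, 0, 0, -2, 0, 2, 2, -2, 2, -2, 2, 2, 2, 0, 2, -2, 0, -2, 2, -2, 2, 2, 0],
   [2, 2, 2, 2, 0, 2, 0, 0, 0, 0, 0, 0, 0, 0, -2, 0, 0, 6, 0, 0, 0, 0, 0, 2],
   [0, 0, 0, 0, -2, 0, -2, -2, 2, -2, 2, 2, 2, -2, 0, 2, 2, 0, 2, 2, -2, 2, 2, 0],
   [0, 0, 0, 0, 2, 0, 2, -2, -2, 2, 2, 2, -2, -2, 0, 2, -2, 0, 2, 2, 2, -2, 2, 0],
   [0, 0, 0, 0, 2, 0, -2, 2, 2, -2, -2, 2, -2, 2, 0, 2, 2, 0, -2, 2, 2, -2, 2, 0],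
   [0, 0, 0, 0, -2, 0, 2, -2, 2, 2, 2, -2, 2, 2, 0, 2, 2, 0, -2, 2, 2, -2, -2, 0],
   [0, 0, 0, 0, -2, 0, 2, 2, 2, -2, 2, -2, -2, 2, 0, -2, -2, 0, 2, 2, 2, 2, 2, 0],
   [-2, -2, -2, -2, 0, -2, 0, 0, 0, 0, 0, 0, 0, 0, 2, 0, 0, 2, 0, 0, 0, 0, 0, 6]]

/-- A permutation commuting with the element. -/
def tList : List Nat :=
  [8, 10, 20, 18, 2, 16, 11, 6, 3, 12, 23, 15, 21, 7, 17, 22, 5, 14, 1, 13, 0, 19, 9, 4]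

/-- Its inverse. -/
def tInv : List Nat :=
  [20, 18, 4, 8, 23, 16, 7, 13, 0, 22, 1, 6, 9, 19, 17, 11, 5, 14, 3, 21, 2, 12, 15, 10]

/-- A fixed code word. -/
def wMask : Nat :=
  2220640

/-- Images of the basis under the three generators. -/
def mats : List (List Nat) :=
  [[87, 80, 200, 196, 168, 2, 136, 128],
   [12, 239, 84, 85, 16, 48, 64, 144],
   [65, 130, 200, 196, 224, 208, 64, 128]]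

/-- Images in each family and inverses; the last entry marks a swap. -/
def prms : List (List Nat × List Nat × List Nat × List Nat × Bool) :=
  [([0, 1, 4, 2, 3], [0, 1, 3, 4, 2], [0, 1, 3, 4, 2], [0, 1, 4, 2, 3], false),
   ([2, 4, 0, 3, 1], [2, 4, 0, 3, 1], [1, 0, 4, 3, 2], [1, 0, 4, 3, 2], false),
   ([0, 1, 2, 3, 4], [0, 1, 2, 3, 4], [0, 1, 2, 3, 4], [0, 1, 2, 3, 4], true)]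

/-- Transversal in the centraliser in `M24`. -/
def wit : List (List Nat) :=
  [[1, 2, 3, 23, 8, 5, 9, 22, 10, 13, 20, 12, 7, 15, 14, 21, 16, 17, 4, 11, 18, 6, 19, 0],
   [2, 3, 23, 0, 10, 5, 13, 19, 20, 15, 18, 7, 22, 21, 14, 6, 16, 17, 8, 12, 4, 9, 11, 1],
   [3, 23, 0, 1, 20, 5, 15, 11, 18, 21, 4, 22, 19, 6, 14, 9, 16, 17, 10, 7, 8, 13, 12, 2],
   [23, 0, 1, 2, 18, 5, 21, 12, 4, 6, 8, 19, 11, 9, 14, 13, 16, 17, 20, 22, 10, 15, 7, 3],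
   [8, 10, 20, 18, 2, 16, 11, 6, 3, 12, 23, 15, 21, 7, 17, 22, 5, 14, 1, 13, 0, 19, 9, 4],
   [9, 13, 15, 21, 0, 16, 4, 19, 1, 8, 2, 7, 22, 10, 14, 20, 17, 5, 23, 12, 3, 18, 11, 6],
   [22, 19, 11, 12, 1, 16, 15, 10, 2, 21, 3, 4, 8, 6, 5, 9, 14, 17, 0, 18, 23, 13, 20, 7],
   [10, 20, 18, 4, 3, 16, 12, 9, 23, 7, 0, 21, 6, 22, 17, 19, 5, 14, 2, 15, 1, 11, 13, 8],
   [13, 15, 21, 6, 1, 16, 8, 11, 2, 10, 3, 22, 19, 20, 14, 18, 17, 5, 0, 7, 23, 4, 12, 9],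
   [20, 18, 4, 8, 23, 16, 7, 13, 0, 22, 1, 6, 9, 19, 17, 11, 5, 14, 3, 21, 2, 12, 15, 10],
   [12, 7, 22, 19, 23, 16, 9, 4, 0, 13, 1, 20, 18, 15, 5, 21, 14, 17, 3, 10, 2, 6, 8, 11],
   [7, 22, 19, 11, 0, 16, 13, 8, 1, 15, 2, 18, 4, 21, 5, 6, 14, 17, 23, 20, 3, 9, 10, 12],
   [15, 21, 6, 9, 2, 16, 10, 12, 3, 20, 23, 19, 11, 18, 14, 4, 17, 5, 1, 22, 0, 8, 7, 13],
   [21, 6, 9, 13, 3, 16, 20, 7, 23, 18, 0, 11, 12, 4, 14, 8, 17, 5, 2, 19, 1, 10, 22, 15],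
   [4, 8, 10, 20, 1, 16, 19, 21, 2, 11, 3, 13, 15, 12, 17, 7, 5, 14, 0, 9, 23, 22, 6, 18],
   [11, 12, 7, 22, 3, 16, 6, 18, 23, 9, 0, 10, 20, 13, 5, 15, 14, 17, 2, 8, 1, 21, 4, 19],
   [18, 4, 8, 10, 0, 16, 22, 15, 1, 19, 2, 9, 13, 11, 17, 12, 5, 14, 23, 6, 3, 7, 21, 20],
   [6, 9, 13, 15, 23, 16, 18, 22, 0, 4, 1, 12, 7, 8, 14, 10, 17, 5, 3, 11, 2, 20, 19, 21],
   [19, 11, 12, 7, 2, 16, 21, 20, 3, 6, 23, 8, 10, 9, 5, 13, 14, 17, 1, 4, 0, 15, 18, 22],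
   [0, 1, 2, 3, 4, 5, 6, 7, 8, 9, 10, 11, 12, 13, 14, 15, 16, 17, 18, 19, 20, 21, 22, 23]]

/-- Elements of the centraliser fixing the last point. -/
def cent : List (List Nat) :=
  [[0, 1, 2, 3, 4, 5, 6, 7, 8, 9, 10, 11, 12, 13, 14, 15, 16, 17, 18, 19, 20, 21, 22, 23],
   [0, 1, 2, 3, 13, 17, 12, 18, 15, 7, 21, 10, 20, 22, 5, 19, 16, 14, 9, 8, 6, 11, 4, 23],
   [0, 1, 2, 3, 22, 14, 20, 9, 19, 18, 11, 21, 6, 4, 17, 8, 16, 5, 7, 15, 12, 10, 13, 23]]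

/-- Words in the generators for standard generators of the block group. -/
def words : List (List Nat) :=
  [[0, 0, 1, 0, 1, 0, 1, 0, 0, 1, 0, 1, 0, 1],
   [0, 1, 0, 1, 0, 1, 0, 0, 1, 0, 1, 0, 1, 0],
   [1, 0, 1, 0, 1, 0, 0, 1, 0, 1, 0, 1, 0, 0],
   [2]]

end Cfsg.Agent.Lib.MonsterType.HN.Data
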