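import Cfsg.Agent.Lib.MonsterType.HN.Cert
import Cfsg.Agent.Lib.MonsterType.OddType.Align

/-!
The centraliser of a Sylow 5-subgroup of the joint centraliser, modulo it, is of Harada–Norton type.
-/

set_option autoImplicit false

namespace Cfsg.Agent.Lib.MonsterType.HN

open Cfsg
open Cfsg.Agent.Lib
open Cfsg.Agent.Lib.Leech
open Cfsg.Agent.Lib.MonsterType.OddType

local notation "mk₁" => QuotientGroup.mk' (Subgroup.center Co0)

theorem isHN {G : Type*} [Group G] [Finite G] {z : G} {R : Subgroup G} (D : MData z R) {g : G}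
    (hgR : g * z * g⁻¹ ∈ R) (hne : g * z * g⁻¹ ≠ z) (B : Subgroup G)
    (hB : B ≤ Subgroup.centralizer ({z, g * z * g⁻¹} : Set G))
    (hBp : Nat.card B =
      5 ^ (Nat.card ↥(Subgroup.centralizer ({z, g * z * g⁻¹} : Set G))).factorization 5)
    [hn : (B.subgroupOf (Subgroup.centralizer (B : Set G))).Normal] :
    IsOfHaradaNortonType (↥(Subgroup.centralizer (B : Set G)) ⧸
      B.subgroupOf (Subgroup.centralizer (B : Set G))) := by
  haveI : Fact (Nat.Prime 5) := ⟨by norm_num⟩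
  haveI := finite_co0
  have hX : Subgroup.centralizer ({z, g * z * g⁻¹} : Set G) =
      Subgroup.centralizer ({z} : Set G) ⊓ Subgroup.centralizer ({g * z * g⁻¹} : Set G) := by
    ext x
    simp [Subgroup.mem_centralizer_iff, Subgroup.mem_inf]
  have h5 : (244823040 : ℕ).factorization 5 = 1 := by
    rw [show (244823040 : ℕ) = 5 * 48964608 from rfl, Nat.factorization_mul (by norm_num) (by norm_num),
      Finsupp.add_apply, (by norm_num : Nat.Prime 5).factorization_self,
      Nat.factorization_eq_zero_of_not_dvd (by norm_num)]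
  rw [hX, factorization_joint D hgR hne (by norm_num) (by norm_num), h5, pow_one] at hBp
  rw [hX] at hB
  obtain ⟨⟨x, hxB⟩, hxo⟩ := exists_prime_orderOf_dvd_card' (G := B) 5 (by rw [hBp])
  replace hxo : orderOf x = 5 := by
    rw [← hxo]; exact orderOf_injective B.subtype B.subtype_injective ⟨x, hxB⟩
  have hBx : B = Subgroup.zpowers x :=
    (Subgroup.eq_of_le_of_card_ge (Subgroup.zpowers_le.2 hxB) (by rw [hBp, Nat.card_zpowers, hxo])).symm
  have hx5 : x ^ spec.p = 1 := by rw [show spec.p = 5 from rfl, ← hxo, pow_orderOf_eq_one]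
  have h64 := mem_type64 D (setting_of_conj D.good hgR hne) (D.transport g).card
  obtain ⟨g₀, hl⟩ := exists_recoord D h64
  obtain ⟨χ, -, hspec⟩ := exists_chi (D.recoord g₀) hgR hne hl
  have hβ1 : (D.recoord g₀).π ⟨x, (hB hxB).1⟩ ≠ 1 := fun e => by
    have h1 : x = 1 := eq_one_of_pow_eq_one D (by norm_num : (5 : ℕ) ≠ 2)
      (((D.recoord g₀).π_eq_one _).1 e) (by rw [← hxo, pow_orderOf_eq_one])
    rw [h1, orderOf_one] at hxo
    norm_num at hxo
  have hβ : (D.recoord g₀).π ⟨x, (hB hxB).1⟩ ∈ cross₁ := by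
    rw [show (D.recoord g₀).π ⟨x, (hB hxB).1⟩ = (χ ⟨x, hB hxB⟩ : Spor.Co1) from (hspec ⟨x, hB hxB⟩).symm]
    exact (χ ⟨x, hB hxB⟩).2
  have hkp : (QuotientGroup.mk (Spec.k0 spec_ok) : Spor.Co1) ^ 5 = 1 := by
    rw [← QuotientGroup.mk_pow]
    exact congrArg _ (Spec.k0_pow_p spec_ok)
  obtain ⟨m, ⟨m₀, -, rfl⟩, i, hi⟩ := exists_conj_pow (p := 5) (H := cross₁) (by
      rw [card_cross₁, Nat.factorization_mul (by norm_num) (by norm_num), Finsupp.add_apply, h5,
        Nat.factorization_eq_zero_of_not_dvd (by norm_num)]) hβ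
    (show (QuotientGroup.mk (Spec.k0 spec_ok) : Spor.Co1) ∈ cross₁ from
      ⟨_, monoCo_mem_crossStab _ (Spec.perm_mem spec_ok) 0 (zero_mem _), rfl⟩)
    (orderOf_eq_prime (by
      rw [← map_pow, show (⟨x, (hB hxB).1⟩ : ↥(Subgroup.centralizer ({z} : Set G))) ^ 5 = 1 from
        Subtype.ext (by simpa [← hxo] using pow_orderOf_eq_one x), map_one]) hβ1)
    (orderOf_eq_prime hkp (Spec.mk_k0_ne_one spec_ok))
  obtain ⟨D', b, hbp, hπ, hBb⟩ := exists_aligned spec_ok (D.recoord g₀) hBx (hB hxB).1 hx5 hβ1 hi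
  have hbs : (b : G) * (g * z * g⁻¹) = g * z * g⁻¹ * b :=
    Subgroup.mem_centralizer_singleton_iff.1 (hB (hBb ▸ Subgroup.mem_zpowers (b : G))).2
  subst hBb
  obtain ⟨z', Q, hQ, hS, he⟩ := exists_setting blocks D' hbp hπ no_two_core_wreath hgR hne hbs
  exact ⟨z', Q, hQ, hS, he⟩

end Cfsg.Agent.Lib.MonsterType.HN
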